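import Cfsg.Agent.RuD.IdxPermG_m3
import Cfsg.Agent.KFacts.Ru.Core
import Cfsg.Agent.QTUnique.Crit
import Cfsg.Agent.FastGrp
import Cfsg.Agent.Prune
set_option linter.all false
prune_inst 0x7f00000000000000000000000000000000000000000000000000000000000000000000000000000000000000000000000000000000000000000000000000000000000000000000000000000000000000003fffffffffffffffffffffffffffbeffbdffffffff
open scoped Cfsg.Agent.FastGrp

/-!
# S1819: `Ru`

An elementary abelian group `A ∋ z` normalized by `C(z)` and `N(Z)` contains all members of `Σ(z')`, `z' ∈ Z`; but these do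
not commute.
-/

set_option autoImplicit false
set_option maxRecDepth 100000

namespace Cfsg.Agent.QTUnique.Ru

open Cfsg Subgroup Cfsg.Agent.RuB Cfsg.Agent.RuB.Core Cfsg.Agent.RuB.NormZ Cfsg.Agent.RuB.NormQ Cfsg.Agent.KFacts.Ru
open Cfsg.Agent.Ru127.Form (nor mem_nor mem_cj LocalData cj)
open Cfsg.Agent.Ru127.Inst (W8 q8 b8 R8 code inT)

/-- a singular vector outside `T` is not orthogonal to all its dilates -/
theorem chk : ∀ w : W8, w ≠ 0 → q8 w = 0 → inT (code w) = false →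
    ∃ k : K8, k ≠ 0 ∧ b8 w (Plane.dilate k w) ≠ 0 := by decide +kernel

variable {G : Type*} [Group G]

theorem mem_normalizer_of_nor {Z : Subgroup G} {g : G} (hg : g ∈ nor Z) : g ∈ normalizer (Z : Set G) := by
  rw [mem_nor] at hg
  rw [mem_normalizer_iff]
  intro x
  constructor
  · intro hx
    show g * x * g⁻¹ ∈ Z
    rw [← hg, mem_cj]
    have e : g⁻¹ * (g * x * g⁻¹) * g = x := by group
    rwa [e]
  · intro hx
    have hx' : g * x * g⁻¹ ∈ Z := hx
    rw [← hg, mem_cj] at hx'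
    have e : g⁻¹ * (g * x * g⁻¹) * g = x := by group
    rwa [e] at hx'

theorem isPGroup_Zs {C : Core G} : IsPGroup 2 (Zs C) := by
  rintro ⟨x, b, rfl⟩
  refine ⟨1, Subtype.ext ?_⟩
  show (C.z b) ^ (2 ^ 1) = 1
  rw [pow_one, pow_two, C.z_sq]

theorem Zs_ne {C : Core G} (hz1 : C.z 1 ≠ 1) : Zs C ≠ ⊥ := fun h => hz1 (by
  have := z_mem_Zs (C := C) 1
  rwa [h, mem_bot] at this)

theorem notUnique_of_core [Finite G] (C : Core G) : NotUnique G := by
  obtain ⟨K, hν, hμ, g0, hg0, ht⟩ := QSyl.exists_coord_norm C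
  have L : LocalData (Local.DD C) (Local.ZZ C) R8 := Local.localData' hν hμ hg0 ht
  have hco : Ru127.Form.IsCoord (Local.DD C) (Zs C) R8 K.π C.z := Local.isCoord hν hμ (Local.mem_nor_of_norm hg0) ht
  have hcz := Local.cent_le K hμ
  have hz1 : C.z 1 ≠ 1 := fun h => one_ne_zero (C.z_eq_one h)
  obtain ⟨P, -, hPz, hPQ, hPn, hPc⟩ := InvC.exists_sylow C
  refine notUnique_of_elem P fun A hAP hA2 hAc hAx hN => ?_
  -- `z ∈ A`
  have hzA : C.z 1 ∈ A := by
    obtain ⟨x, hx, hx1, hxt⟩ := hAx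
    rcases hPc x hxt with h | h
    · exact absurd h hx1
    · rwa [← h]
  -- `A` is normalized by `C(z)`
  have hCz : ∀ g : G, Commute g (C.z 1) → ∀ x ∈ A, g * x * g⁻¹ ∈ A := by
    intro g hg x hx
    have h1 := hN (zpowers (C.z 1)) (isPGroup_zpowers (C.z_sq 1)) (by rw [Ne, zpowers_eq_bot]; exact hz1)
      (fun y hy => centralizer_le_normalizer_zpowers _ (mem_centralizer_singleton_iff.2 (hPz y hy)))
    exact (mem_normalizer_iff.1 (h1 (centralizer_le_normalizer_zpowers _ (mem_centralizer_singleton_iff.2 hg))) x).1 hx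
  -- `A` is normalized by `N(Z)`
  have hnz : ∀ g ∈ nor (Zs C), ∀ x ∈ A, g * x * g⁻¹ ∈ A := by
    intro g hg x hx
    have h1 := hN (Zs C) isPGroup_Zs (Zs_ne hz1) (fun y hy => mem_normalizer_of_nor (hPn y hy))
    exact (mem_normalizer_iff.1 (h1 (mem_normalizer_of_nor hg)) x).1 hx
  -- another member `b` of `Σ(z)`
  have h5 := InvC.card_sig C _ Local.Zs_mem_ZZ _ (z_mem_Zs 1) hz1
  obtain ⟨b, hb, hzb, hbZ⟩ : ∃ b ∈ Local.ZZ C, C.z 1 ∈ b ∧ b ≠ Zs C := by
    by_contra hcon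
    push Not at hcon
    have : Subsingleton (Cfsg.Agent.Ru127.Count.Sig (Local.ZZ C) (C.z 1)) := ⟨fun x y => Subtype.ext (by
      rw [hcon x.1 x.2.1 x.2.2, hcon y.1 y.2.1 y.2.2])⟩
    have := Finite.card_le_one_iff_subsingleton.2 this
    omega
  have hZA : ∀ e, C.z e ∈ A := by
    intro e
    by_cases he : e = 0
    · rw [he, C.z_zero]; exact one_mem _
    · obtain ⟨n, hn, hne⟩ := Local.exists_nor_conj (C := C) (one_ne_zero (α := K8)) he
      rw [← hne]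
      exact hnz n hn _ hzA
  have hbA : ∀ x ∈ b, x ∈ A := by
    obtain ⟨g, hg, hgb⟩ := Cfsg.Agent.Ru127.Xi.trans_sig L hz1 Local.Zs_mem_ZZ (z_mem_Zs 1) hb hzb
    intro x hx
    rw [← hgb, mem_cj] at hx
    obtain ⟨e, he⟩ := hx
    have h1 := hCz g hg _ (hZA e)
    have e1 : x = g * C.z e * g⁻¹ := by rw [← show g⁻¹ * x * g = C.z e from he]; group
    rwa [e1]
  obtain ⟨j, hj, hjZ⟩ : ∃ j ∈ b, j ∉ Zs C := by
    by_contra hcon
    push Not at hcon
    exact hbZ (Cfsg.Agent.Ru127.Basic.eq_of_le L hb Local.Zs_mem_ZZ hcon)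
  have hj1 : j ≠ 1 := fun h => hjZ (h ▸ one_mem _)
  have hjz : j ≠ C.z 1 := fun h => hjZ (h ▸ z_mem_Zs 1)
  obtain ⟨hw0, hq, hV, -⟩ := Cfsg.Agent.Ru127.Xi.mem_J3 L hz1 hb hzb Local.Zs_mem_ZZ (z_mem_Zs 1) hbZ hco
    (fz := (1 : K8)) rfl hj hj1 hjz
  have hjA := hbA j hj
  have hjQ : j ∈ C.QQ := hcz j fun e => hAc j hjA _ (hZA e)
  obtain ⟨k, hk, hbk⟩ := chk (K.π j) hw0 hq (by
    rw [← Bool.not_eq_true, ← Ru127.Inst.T_iff]
    rintro ⟨-, h⟩
    exact hV h)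
  have hdn := dk_mem_nor (C := C) (Units.mk0 k hk)
  have hj'A := hnz _ hdn j hjA
  have hj'Q := Local.conj_mem_QQ hμ hdn hjQ
  have hcomm := K.comm hjQ hj'Q
  rw [hAc j hjA _ hj'A, K.dk _ _ hjQ, hμ] at hcomm
  have h6 : C.z (bf ⟨7⟩ (K.π j) ((K.π j).1, (K.π j).2.1 * k ^ 5, (K.π j).2.2 * k ^ 4)) = 1 := by
    have h7 := left_eq_mul.1 hcomm
    exact h7
  exact hbk (by rw [← Local.bf_eq]; exact C.z_eq_one h6)

/-- **`Ru`.** -/
theorem notUnique {G : Type*} [Group G] [Finite G] (h : Spor.IsoRu G) : NotUnique G := by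
  obtain ⟨C, -⟩ := exists_core h
  exact notUnique_of_core C

/-! ### generation -/

section model

open Cfsg.Agent.RuD.Letters Cfsg.Agent.SporadicB Cfsg.Agent.SporRec.R3.Kernel Cfsg.Agent.SporRec.TCUpperCert

theorem chk_y : chkEq [5, 1, 1] [1, 1, 5] = true := by decide +kernel

theorem chk_w : chkEq [3, 5, 1, 3, 5, 3, 5, 3, 3, 1, 1, 7, 7, 5, 7, 5, 7, 6, 5, 7, 2]
    [2, 3, 5, 1, 3, 5, 3, 5, 3, 3, 1, 1, 7, 7, 5, 7, 5, 7, 6, 5, 7] = true := by decide +kernel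

theorem model_y : Y * (S * S) = S * S * Y := by wordeq chk_y

theorem model_w : F * Y * S * F * Y * F * Y * F * F * (S * S) *
      (F⁻¹ * F⁻¹ * Y * F⁻¹ * Y * F⁻¹ * S⁻¹ * Y * F⁻¹) * W =
    W * (F * Y * S * F * Y * F * Y * F * F * (S * S) *
      (F⁻¹ * F⁻¹ * Y * F⁻¹ * Y * F⁻¹ * S⁻¹ * Y * F⁻¹)) := by wordeq chk_w

end model

/-- letters, with two more relations -/
theorem exists_lets' {K : Type*} [Group K] (h : Spor.IsoRu K) : ∃ t s w f d y : K, Lets t s w f d y ∧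
    y * (s * s) = s * s * y ∧
    f * y * s * f * y * f * y * f * f * (s * s) * (f⁻¹ * f⁻¹ * y * f⁻¹ * y * f⁻¹ * s⁻¹ * y * f⁻¹) * w =
      w * (f * y * s * f * y * f * y * f * f * (s * s) * (f⁻¹ * f⁻¹ * y * f⁻¹ * y * f⁻¹ * s⁻¹ * y * f⁻¹)) := by
  obtain ⟨e⟩ := h
  let e' : Cfsg.Agent.SporadicB.RuOrder.H ≃* K := (e.trans Cfsg.Agent.RuLat.Main.equiv).symm
  exact ⟨_, _, _, _, _, _, lets_model.map e',
    by simpa only [map_mul, map_inv, map_one] using congrArg e' model_y,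
    by simpa only [map_mul, map_inv, map_one] using congrArg e' model_w⟩

end Cfsg.Agent.QTUnique.Ru
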